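import Groth.Agent.DCompTenLib.Main
import Groth.Agent.DualCxLib.Biduality
import Groth.Agent.PerfBaseLib.TensorAlg

/-!
# Derived completion commutes with tensoring by a finite module
-/

set_option autoImplicit false
set_option linter.all false
set_option maxHeartbeats 1000000

universe u

open CategoryTheory CategoryTheory.Limits MonoidalCategory HomologicalComplex DTen DTenLib
open Groth.Agent
open KFlatLib (tMap tT tensorN)
open PerfBaseLib (M₀ singleT tensorSingleIso)

attribute [local instance] HasDerivedCategory.standard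

noncomputable section

namespace DCompTenLib

variable {A : Type u} [CommRing A]

/-- Reflections are invariant under isomorphisms of arrows. -/
theorem isRefl_of_arrow {I : Ideal A} {X B X' B' : Dual.D A} {q : X ⟶ B} {q' : X' ⟶ B'} (e₁ : X ≅ X')
    (e₂ : B ≅ B') (w : e₁.hom ≫ q' = q ≫ e₂.hom) (h : DCompLib.IsRefl I q) : DCompLib.IsRefl I q' := by
  refine ⟨ObjectProperty.prop_of_iso _ e₂ h.1, fun Y hY => ?_⟩
  have := e₁.homFromEquiv.bijective.comp ((h.2 Y hY).comp e₂.symm.homFromEquiv.bijective)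
  refine (congrArg Function.Bijective (funext fun t => ?_)).mpr this
  show q' ≫ t = e₁.inv ≫ q ≫ e₂.hom ≫ t
  rw [← reassoc_of% w, Iso.inv_hom_id_assoc]

variable (N : ModuleCat.{u} A)

theorem whisker_aux {Z X Y : ModuleCat.{u} A} {n m m' m'' : ModuleCat.{u} A} (s : Z ⟶ X) (g : n ⟶ m)
    (ι : X ⊗ n ⟶ m') (ι' : X ⊗ m ⟶ m'') (t : m' ⟶ m'') (i : X ⟶ X) (hi : i = 𝟙 X)
    (h : ι ≫ t = (i ⊗ₘ g) ≫ ι') : Z ◁ g ≫ s ▷ m ≫ ι' = (s ▷ n ≫ ι) ≫ t := by
  rw [Category.assoc, h, hi, id_tensorHom, whisker_exchange_assoc]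

theorem singleT_natural {C C' : DRing.Cx A} (f : C ⟶ C') :
    ((tensorLeft N).mapHomologicalComplex (ComplexShape.up ℤ)).map f ≫ singleT N C' =
      singleT N C ≫ tMap (𝟙 (M₀ N)) f := by
  refine HomologicalComplex.hom_ext _ _ fun n => ?_
  show N ◁ f.f n ≫ (singleObjXSelf (ComplexShape.up ℤ) 0 N).inv ▷ C'.X n ≫ KFlatLib.ιT (M₀ N) C' 0 n n (zero_add n) =
    ((singleObjXSelf (ComplexShape.up ℤ) 0 N).inv ▷ C.X n ≫ KFlatLib.ιT (M₀ N) C 0 n n (zero_add n)) ≫
      (tMap (𝟙 (M₀ N)) f).f n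
  exact whisker_aux (Y := N) _ _ _ _ _ ((𝟙 (M₀ N) : M₀ N ⟶ M₀ N).f 0) (HomologicalComplex.id_f _ _)
    (KFlatLib.ιT_tMap (𝟙 (M₀ N)) f 0 n n (zero_add n))

theorem tensorSingleIso_natural {C C' : DRing.Cx A} (f : C ⟶ C') :
    tMap f (𝟙 (M₀ N)) ≫ (tensorSingleIso N C').hom =
      (tensorSingleIso N C).hom ≫ ((tensorRight N).mapHomologicalComplex (ComplexShape.up ℤ)).map f := by
  simp only [tensorSingleIso, Iso.trans_hom, Iso.symm_hom, asIso_inv, Category.assoc]
  have h1 := KFlatLib.tensorFlipIso_natural f (𝟙 (M₀ N))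
  have h1' : tMap f (𝟙 (M₀ N)) ≫ (KFlatLib.tensorFlipIso C' (M₀ N)).inv =
      (KFlatLib.tensorFlipIso C (M₀ N)).inv ≫ tMap (𝟙 (M₀ N)) f := by
    rw [Iso.comp_inv_eq, Category.assoc, Iso.eq_inv_comp]
    exact h1.symm
  have h2' : tMap (𝟙 (M₀ N)) f ≫ inv (singleT N C') =
      inv (singleT N C) ≫ ((tensorLeft N).mapHomologicalComplex (ComplexShape.up ℤ)).map f := by
    rw [IsIso.comp_inv_eq, Category.assoc, IsIso.eq_inv_comp]
    exact (singleT_natural N f).symm
  rw [reassoc_of% h1', reassoc_of% h2']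
  exact congrArg (fun t => _ ≫ _ ≫ t) ((NatIso.mapHomologicalComplex
    (BraidedCategory.tensorLeftIsoTensorRight N) (ComplexShape.up ℤ)).hom.naturality f)

variable [HasLTen A] [DRing.HasLTensor A N]

theorem preservesKFlatQis_tensorRight : DRingLib.PreservesKFlatQis (tensorRight N) :=
  fun _ _ α hP hQ hα => haveI := hα; DRingLib.quasiIso_tensorN α hP hQ N

/-- The prelude's tensor product with a module at a K-flat complex. -/
def ltIso (P : DRing.Cx A) (hP : DRing.IsKFlat A P) :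
    (tensorRightD A (DerivedCategory.Q.obj (M₀ N))).obj (DerivedCategory.Q.obj P) ≅
      (DRing.LTensor A N).obj (DerivedCategory.Q.obj P) :=
  @asIso _ _ _ _ ((ε A).app (P, M₀ N)) (isIso_ε P (M₀ N) (Or.inl hP)) ≪≫
    DerivedCategory.Q.mapIso (tensorSingleIso N P) ≪≫
      (DRingLib.leftDerivedObjIso (preservesKFlatQis_tensorRight N) P hP).symm

theorem ltIso_natural {P P' : DRing.Cx A} (hP : DRing.IsKFlat A P) (hP' : DRing.IsKFlat A P') (f : P ⟶ P') :
    (ltIso N P hP).hom ≫ (DRing.LTensor A N).map (DerivedCategory.Q.map f) =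
      (tensorRightD A (DerivedCategory.Q.obj (M₀ N))).map (DerivedCategory.Q.map f) ≫ (ltIso N P' hP').hom := by
  have h0 : (tensorRightD A (DerivedCategory.Q.obj (M₀ N))).map (DerivedCategory.Q.map f) ≫ (ε A).app (P', M₀ N) =
      (ε A).app (P, M₀ N) ≫ DerivedCategory.Q.map (f ▷ M₀ N) := (εRight A (M₀ N)).naturality f
  have h1 : f ▷ M₀ N = tMap f (𝟙 (M₀ N)) := (tensorHom_id f (M₀ N)).symm
  have h2 : DerivedCategory.Q.map (f ▷ M₀ N) ≫ DerivedCategory.Q.map (tensorSingleIso N P').hom =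
      DerivedCategory.Q.map (tensorSingleIso N P).hom ≫
        DerivedCategory.Q.map (((tensorRight N).mapHomologicalComplex (ComplexShape.up ℤ)).map f) := by
    rw [← Functor.map_comp, ← Functor.map_comp, h1]
    exact congrArg _ (tensorSingleIso_natural N f)
  have h3 := DRingLib.leftDerivedObjIso_natural (preservesKFlatQis_tensorRight N) hP hP' f
  simp only [ltIso, Iso.trans_hom, asIso_hom, Functor.mapIso_hom, Iso.symm_hom, Category.assoc]
  rw [reassoc_of% h0, reassoc_of% h2]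
  refine congrArg (fun t => _ ≫ _ ≫ t) ?_
  rw [Iso.inv_comp_eq, ← Category.assoc]
  exact (Iso.eq_comp_inv _).2 h3

variable [HasLTen₃ A] [IsSymMonoidal A] [HasRHom A] [IsNoetherianRing A] {I : Ideal A}

/-- Completion commutes with the derived tensor product with a finite module. -/
theorem isRefl_LTensor [DRing.HasDerivedCompletion I] [Module.Finite A N] (K : Dual.D A) (b : ℤ)
    (hK : ∀ i, b < i → Subsingleton (Dual.HD A K i)) :
    DCompLib.IsRefl I ((DRing.LTensor A N).map (DRing.toDerivedCompletion I K)) := by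
  have hI : I.FG := IsNoetherian.noetherian I
  have hle := isLE_completion hI K b hK
  obtain ⟨P, hPb, hPf, ⟨eP⟩⟩ := DRingLib.exists_free_rep K b fun i hi =>
    haveI := hK i hi; ModuleCat.isZero_of_subsingleton (ModuleCat.of A (Dual.HD A K i))
  obtain ⟨P', hPb', hPf', ⟨eP'⟩⟩ := DRingLib.exists_free_rep ((DRing.derivedCompletion I).obj K).obj b
    ((DerivedCategory.isLE_iff _ _).1 hle)
  haveI := DRingLib.isKProjective_of_free P b hPb hPf
  obtain ⟨f, hf⟩ := DRingLib.Q_map_surjective P P' (eP.hom ≫ DRing.toDerivedCompletion I K ≫ eP'.inv)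
  have hk := DRingLib.isKFlat_of_free P b hPb hPf
  have hk' := DRingLib.isKFlat_of_free P' b hPb' hPf'
  have hX : DRing.IsPseudoCoherent' A (DerivedCategory.Q.obj (M₀ N)) := by
    obtain ⟨E, c, hc, hE, ⟨e⟩⟩ := DualCxLib.isPseudoCoherent'_inD (A := A) (N : Type u)
    exact ⟨E, c, hc, hE, ⟨e ≪≫ (DerivedCategory.singleFunctorIsoCompQ (ModuleCat.{u} A) 0).app N⟩⟩
  have h := isRefl_tensor_completion hI hX K b hK
  let G := tensorRightD A (DerivedCategory.Q.obj (M₀ N))
  refine isRefl_of_arrow (G.mapIso eP.symm ≪≫ ltIso N P hk ≪≫ (DRing.LTensor A N).mapIso eP)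
    (G.mapIso eP'.symm ≪≫ ltIso N P' hk' ≪≫ (DRing.LTensor A N).mapIso eP') ?_ h
  have hu : DRing.toDerivedCompletion I K = eP.inv ≫ DerivedCategory.Q.map f ≫ eP'.hom := by
    rw [hf]; simp
  simp only [Iso.trans_hom, Functor.mapIso_hom, Iso.symm_hom, Category.assoc, hu, Functor.map_comp]
  rw [← (DRing.LTensor A N).map_comp_assoc, eP.hom_inv_id, CategoryTheory.Functor.map_id, Category.id_comp,
    reassoc_of% (ltIso_natural N hk hk' f)]
  rw [← G.map_comp_assoc eP'.hom eP'.inv, eP'.hom_inv_id, CategoryTheory.Functor.map_id, Category.id_comp]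

end DCompTenLib

end
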