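import Groth.Agent.DCompRHomLib.Main
import Groth.Agent.DTenLib.Bounds
import Groth.Agent.ShriekRingLib.Tensor

/-!
# Derived completion commutes with tensoring by a pseudo-coherent complex
-/

set_option autoImplicit false
set_option linter.all false
set_option maxHeartbeats 1000000

universe u

open CategoryTheory CategoryTheory.Limits DTen DTenLib
open CategoryTheory.Pretriangulated (Triangle)
open Groth.Agent
open Groth.Agent.DCompLib (Comp Van)

attribute [local instance] HasDerivedCategory.standard

noncomputable section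

namespace DCompTenLib

variable {A : Type u} [CommRing A] [HasLTen A] [HasLTen₃ A] [IsSymMonoidal A]

/-- The middle of an exact pair with invisible ends. -/
theorem subsingleton_of_ex {a b c X : Dual.D A} {f : a ⟶ b} {g : b ⟶ c} (h : Ex f g)
    (ha : Subsingleton (X ⟶ a)) (hc : Subsingleton (X ⟶ c)) : Subsingleton (X ⟶ b) :=
  ⟨fun y y' => sub_eq_zero.1 (by
    obtain ⟨x, hx⟩ := h.2 X (y - y') (hc.elim _ _)
    rw [← hx, ha.elim x 0, zero_comp])⟩

/-- Completeness of the tensor product with a perfect complex. -/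
theorem comp_tensor_perfect {f : A} {K : Dual.D A} (hK : Comp f K) {E : Dual.D A}
    (hE : DRing.IsPerfect A E) : Comp f ((LTen₂ A).obj (K, E)) := by
  let P : ObjectProperty (Dual.D A) := fun E => Comp f ((LTen₂ A).obj (K, E))
  haveI : P.IsClosedUnderIsomorphisms :=
    ⟨fun {X Y} e hX => DCompLib.Comp.of_iso (((LTen A).obj K).mapIso e) hX⟩
  refine Groth.Agent.S7010.result A P ?_ ?_ ?_ ?_ E hE
  · exact DCompLib.Comp.of_iso (asIso ((unitR A).app K)).symm hK
  · intro X n hX
    obtain ⟨e⟩ := ShriekRingLib.nonempty_tensor_shift K X n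
    exact DCompLib.Comp.of_iso e.symm (DCompLib.Comp.shift hX n)
  · intro T hT h₁ h₃
    exact (DCompLib.comp_iff_forall f).2 fun X => subsingleton_of_ex (homExact_LTen_obj K T hT)
      ((DCompLib.comp_iff_forall f).1 h₁ X) ((DCompLib.comp_iff_forall f).1 h₃ X)
  · intro X Y _ hXY
    refine (DCompLib.comp_iff_forall f).2 fun Z => ⟨fun a b => ?_⟩
    let i := ((LTen A).obj K).map (biprod.inl : X ⟶ X ⊞ Y)
    have hi : i ≫ ((LTen A).obj K).map biprod.fst = 𝟙 _ := by
      rw [← Functor.map_comp, biprod.inl_fst, CategoryTheory.Functor.map_id]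
    haveI : IsSplitMono i := ⟨⟨⟨_, hi⟩⟩⟩
    exact (cancel_mono i).1 (((DCompLib.comp_iff_forall f).1 hXY Z).elim _ _)

/-- Completeness of the tensor product with a pseudo-coherent complex. -/
theorem comp_tensor_pc {f : A} {K : Dual.D A} {b : ℤ} (hb : DerivedCategory.IsLE K b) (hK : Comp f K)
    {X : Dual.D A} (hX : DRing.IsPseudoCoherent' A X) : Comp f ((LTen₂ A).obj (K, X)) := by
  intro n
  obtain ⟨E, α, hE, hα⟩ :=
    DRingLib.isPseudoCoherent_iff.1 (DRingLib.isPseudoCoherent'_iff_forall.1 hX (n - b - 1))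
  obtain ⟨C, q, δ, hT⟩ := Pretriangulated.distinguished_cocone_triangle α
  have hC : DerivedCategory.IsLE C (n - b - 2) := (DerivedCategory.isLE_iff C _).2 fun i hi =>
    (DRingLib.Approx.iff_cone _ _ hT).1 hα i (by omega)
  have hperf : DRing.IsPerfect A (DerivedCategory.Q.obj E) := by
    obtain ⟨a, c, hac, hf⟩ := hE
    refine ⟨E, a, c, hac, fun i => ?_, ⟨Iso.refl _⟩⟩
    haveI := (hf i).2
    exact ⟨(hf i).1, inferInstance⟩
  have hKC : DerivedCategory.IsLE ((LTen₂ A).obj (K, C)) (b + (n - b - 2)) := isLE_tensor hb hC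
  have hv : ∀ j, n - 2 < j → Van ((LTen₂ A).obj (K, C)) j := fun j hj =>
    (DerivedCategory.isLE_iff _ _).1 hKC j (by omega)
  have h3 : Subsingleton (Dual.inD A (Localization.Away f) ⟶ ((LTen₂ A).obj (K, C))⟦n⟧) := by
    haveI := DCompLib.van_iff.1 (hv n (by omega))
    haveI := DCompLib.van_iff.1 (hv (n - 1) (by omega))
    exact DCompLib.subsingleton_hom_of_fComplete f _ n
      (DCompLib.FComplete.of_linearEquiv (DCompLib.hdShiftEquiv _ n).symm DCompLib.FComplete.of_subsingleton)
      (DCompLib.FComplete.of_linearEquiv (DCompLib.hdShiftEquiv _ (n - 1)).symm DCompLib.FComplete.of_subsingleton)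
  have key : ∀ Y : Dual.D A, ((Dual.inD A (Localization.Away f))⟦-n⟧ ⟶ Y) ≃ (Dual.inD A (Localization.Away f) ⟶ Y⟦n⟧) :=
    fun Y => (shiftEquiv' (Dual.D A) (-n) n (neg_add_cancel n)).toAdjunction.homEquiv _ _
  exact @Equiv.subsingleton _ _ (key _).symm (subsingleton_of_ex (homExact_LTen_obj K _ hT)
    (@Equiv.subsingleton _ _ (key _) (comp_tensor_perfect hK hperf n)) (@Equiv.subsingleton _ _ (key _) h3))

variable [HasRHom A] {I : Ideal A}

/-- Tensoring preserves the universal property of a completion. -/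
theorem bijective_tensor_map {K B : Dual.D A} {q : K ⟶ B} (hq : DCompLib.IsRefl I q) (X E : Dual.D A)
    (hE : DRing.IsDerivedComplete I E) :
    Function.Bijective fun φ : (tensorRightD A X).obj B ⟶ E => (tensorRightD A X).map q ≫ φ := by
  have := ((rhomAdj A X).homEquiv K E).symm.bijective.comp
    ((hq.2 _ (DCompRHomLib.isDerivedComplete_RHomR' X hE)).comp ((rhomAdj A X).homEquiv B E).bijective)
  refine (congrArg Function.Bijective (funext fun φ => ?_)).mpr this
  show (tensorRightD A X).map q ≫ φ = ((rhomAdj A X).homEquiv K E).symm (q ≫ (rhomAdj A X).homEquiv B E φ)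
  rw [Adjunction.homEquiv_naturality_left_symm, Equiv.symm_apply_apply]

/-- The completion of an object bounded above is bounded above. -/
theorem isLE_completion [DRing.HasDerivedCompletion I] (hI : I.FG) (K : Dual.D A) (b : ℤ)
    (hK : ∀ i, b < i → Subsingleton (Dual.HD A K i)) :
    DerivedCategory.IsLE ((DRing.derivedCompletion I).obj K).obj b := by
  obtain ⟨s, hs⟩ := hI
  exact (DerivedCategory.isLE_iff _ _).2 fun i hi =>
    DCompLib.van_completion s hs (DCompLib.isRefl_unit K) i fun j hj _ => DCompLib.van_iff.2 (hK j (by omega))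

/-- Completion commutes with tensoring by a pseudo-coherent object. -/
theorem isRefl_tensor_completion [DRing.HasDerivedCompletion I] (hI : I.FG) {X : Dual.D A}
    (hX : DRing.IsPseudoCoherent' A X) (K : Dual.D A) (b : ℤ) (hK : ∀ i, b < i → Subsingleton (Dual.HD A K i)) :
    DCompLib.IsRefl I ((tensorRightD A X).map (DRing.toDerivedCompletion I K)) :=
  ⟨fun f hf => comp_tensor_pc (isLE_completion hI K b hK) ((DCompLib.isRefl_unit K).1 f hf) hX,
    bijective_tensor_map (DCompLib.isRefl_unit K) X⟩

omit [HasLTen₃ A] [IsSymMonoidal A] in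
/-- The comparison with the prelude functor is an isomorphism. -/
theorem isIso_toLTensorCx (E : DRing.Cx A) [DRing.HasLTensorCx A E] : IsIso (toLTensorCx A E) := by
  haveI : ∀ Y, IsIso ((toLTensorCx A E).app Y) := fun Y => by
    obtain ⟨P, hP, ⟨e⟩⟩ := exists_kf_rep Y
    refine (NatTrans.isIso_app_iff_of_iso _ e).1 ?_
    haveI := TwoTermLib.LTCx.isIso_counit E P hP
    have h := toLTensorCx_fac A E P
    haveI : IsIso ((toLTensorCx A E).app (DerivedCategory.Q.obj P) ≫
        ((DRing.tensorCxQ A E).totalLeftDerivedCounit DerivedCategory.Q (qis A)).app P) := by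
      rw [h]; exact isIso_ε P E (Or.inl hP)
    exact IsIso.of_isIso_comp_right _
      (((DRing.tensorCxQ A E).totalLeftDerivedCounit DerivedCategory.Q (qis A)).app P)
  exact NatIso.isIso_of_isIso_app _

/-- Completion commutes with the prelude's tensor product. -/
theorem isRefl_LTensorCx [DRing.HasDerivedCompletion I] (hI : I.FG) (E : DRing.Cx A) [DRing.HasLTensorCx A E]
    (hE : DRing.IsPseudoCoherent' A (DRing.toD E)) (K : Dual.D A) (b : ℤ)
    (hK : ∀ i, b < i → Subsingleton (Dual.HD A K i)) :
    DCompLib.IsRefl I ((DRing.LTensorCx A E).map (DRing.toDerivedCompletion I K)) := by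
  haveI := isIso_toLTensorCx E
  exact DCompRHomLib.isRefl_map_of_natIso
    (asIso (toLTensorCx A E)).symm (isRefl_tensor_completion hI hE K b hK)

end DCompTenLib

end
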